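import Cfsg.Agent.H895.SLT.ResCard
import Cfsg.Agent.ClassicalGeometry.PSL2Basic
import Cfsg.Agent.H489.OutClassical
import Cfsg.Agent.H912.MultChar
import Cfsg.Agent.S0813
import Cfsg.Agent.S1162
import Cfsg.Agent.S1163
import Cfsg.Agent.S2126
import Cfsg.Agent.S2060
import Cfsg.Agent.S2061
import Cfsg.Agent.S2062
import Cfsg.Agent.S2119
import Cfsg.Agent.SporadicA.MathieuRecog
import Cfsg.Agent.MTwelveType.SylowModel
import Cfsg.Agent.HNType.Alt

/-!
# Orders of some automorphism groups (helper1, task 5978)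
-/

set_option autoImplicit false

namespace Cfsg.Agent.H1.EP8

open Matrix Cfsg

universe u

variable {T : Type u} [Group T]

theorem aut_congr {X : Type*} [Group X] (e : T ≃* X) {N : ℕ} (h : Nat.card (MulAut X) ∣ N) :
    Nat.card (MulAut T) ∣ N := by
  rwa [Nat.card_congr (MulAut.congr e).toEquiv]

theorem aut_a6 (h : Nonempty (T ≃* alternatingGroup (Fin 6))) : Nat.card (MulAut T) ∣ 1440 := by
  obtain ⟨e⟩ := h
  exact aut_congr e (by rw [H895.SLT.card_aut_a6])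

theorem aut_alt {n : ℕ} (hn : 4 ≤ n) (h6 : n ≠ 6) (e : T ≃* alternatingGroup (Fin n)) :
    Nat.card (MulAut T) ∣ n.factorial := by
  refine aut_congr e ?_
  rw [← Nat.card_congr (Equiv.ofBijective _ (Cfsg.Agent.S2119.result n hn h6)), Nat.card_eq_fintype_card,
    Fintype.card_perm, Fintype.card_fin]

theorem aut_l2 {K : Type} [Field K] [Fintype K] {p f : ℕ} (hp : p.Prime) (hf : 1 ≤ f) (hK : Fintype.card K = p ^ f)
    (h4 : 4 ≤ p ^ f) :
    Nat.card (MulAut (ProjectiveSpecialLinearGroup (Fin 2) K)) = f * (p ^ f * ((p ^ f) ^ 2 - 1)) := by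
  have := Fact.mk hp
  rw [S0813.result (F := K) p f hf hK 2 le_rfl (fun _ => h4), ClassicalGeometry.PSL2Basic.card_PGL2, hK]
  simp

theorem aut_l28 (h : H912.Bd.IsL 2 8 T) : Nat.card (MulAut T) ∣ 1512 := by
  obtain ⟨K, i, j, hK, ⟨e⟩⟩ := h
  refine aut_congr e ?_
  rw [aut_l2 (p := 2) (f := 3) Nat.prime_two (by norm_num) (by rw [hK]; norm_num) (by norm_num)]
  norm_num

theorem aut_l217 (h : H912.Bd.IsL 2 17 T) : Nat.card (MulAut T) ∣ 4896 := by
  obtain ⟨K, i, j, hK, ⟨e⟩⟩ := h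
  refine aut_congr e ?_
  rw [aut_l2 (p := 17) (f := 1) (by norm_num) (by norm_num) (by rw [hK]; norm_num) (by norm_num)]
  norm_num

theorem card_l217 (h : H912.Bd.IsL 2 17 T) : 17 ∣ Nat.card T := by
  obtain ⟨K, i, j, hK, ⟨e⟩⟩ := h
  rw [Nat.card_congr e.toEquiv]
  have h1 := ClassicalGeometry.PSL2Basic.card_PSL2_odd (F := K) (by rw [hK]; decide)
  rw [hK] at h1
  omega

/-- `|Aut T| = |Out X| |X|` -/
theorem aut_of_out {X : Type*} [Group X] (hs : IsSimpleGroup T) (hn : ¬ ∀ a b : T, a * b = b * a) (e : T ≃* X)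
    {o c N : ℕ} (ho : Nat.card (Out X) = o) (hc : Nat.card X = c) (hN : o * c ∣ N) : Nat.card (MulAut T) ∣ N := by
  have : IsSimpleGroup X := e.symm.isSimpleGroup
  have hna : ¬ IsMulCommutative X := by
    intro h
    apply hn
    intro a b
    apply e.injective
    rw [map_mul, map_mul]
    exact h.is_comm.comm _ _
  have h1 := H489.card_out_mul (H489.center_eq_bot hna)
  rw [ho, hc] at h1
  exact aut_congr e (by rwa [← h1])

theorem aut_sz8 (hs : IsSimpleGroup T) (hn : ¬ ∀ a b : T, a * b = b * a) (h : H912.Bd.IsSz8 T) :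
    Nat.card (MulAut T) ∣ 87360 := by
  obtain ⟨K, i, j, hK, ⟨e⟩⟩ := h
  have hK' : Fintype.card K = 2 ^ (2 * 1 + 1) := hK
  have h4 : (4 : ℕ) = 2 ^ (1 + 1) := by norm_num
  have h5 : Cfsg.Lie.Sz K 4 = Cfsg.Lie.Sz K (2 ^ (1 + 1)) := congrArg (Cfsg.Lie.Sz K) h4
  have h1 := S2126.result le_rfl hK'
  have h2 := (S1163.result le_rfl hK').1
  refine aut_of_out hs hn (e.trans (MulEquiv.subgroupCongr h5)) h1 h2 ?_
  norm_num

theorem aut_m11 (hs : IsSimpleGroup T) (hn : ¬ ∀ a b : T, a * b = b * a) (h : Spor.IsoM11 T) :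
    Nat.card (MulAut T) ∣ 7920 := by
  obtain ⟨e⟩ := h
  exact aut_of_out hs hn e S2060.result HNType.Alt.card_M11 (by norm_num)

theorem aut_m12 (hs : IsSimpleGroup T) (hn : ¬ ∀ a b : T, a * b = b * a) (h : Spor.IsoM12 T) :
    Nat.card (MulAut T) ∣ 190080 := by
  obtain ⟨e⟩ := h
  exact aut_of_out hs hn e S2061.result MTwelveType.SylowModel.card_M12 (by norm_num)

theorem aut_m22 (hs : IsSimpleGroup T) (hn : ¬ ∀ a b : T, a * b = b * a) (h : Spor.IsoM22 T) :
    Nat.card (MulAut T) ∣ 887040 := by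
  obtain ⟨e⟩ := h
  exact aut_of_out hs hn e S2062.result SporadicA.MathieuRecog.card_M22 (by norm_num)

end Cfsg.Agent.H1.EP8
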