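import Cfsg.Agent.H1.EP8.LFourB
import Cfsg.Agent.H936.List12c
import Cfsg.Agent.H937.G24.Row
import Cfsg.Agent.H912.Reidx
import Cfsg.Agent.H937.T2Rep
import Cfsg.Agent.H464.L2StageOne
import Cfsg.Agent.H659.U3Stage
import Cfsg.Agent.H659.Sp4Stage
import Cfsg.Agent.H659.J1Not11
import Cfsg.Agent.H936.U33Two
import Cfsg.Agent.H36.U52.Main
import Cfsg.Agent.H95.JT.Core
import Cfsg.Agent.H878.Sz.MainThree
import Cfsg.Agent.H878.Sz.MainP3
import Cfsg.Agent.H814.SzEightCore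
import Cfsg.Agent.H175.LD.Core33
import Cfsg.Agent.H4.LDM.Stage24
import Cfsg.Agent.H179.JoneL
import Cfsg.Agent.H905.JDCard
import Cfsg.Agent.H871.Par7
import Cfsg.Agent.H825.SpinForm
import Cfsg.Agent.S0253
import Cfsg.Agent.S0256

/-!
# Self-dual cores in dimension eight: the simple groups that are not of Lie type in the characteristic (helper1, task 5978)
-/

set_option autoImplicit false
set_option linter.unusedSectionVars false

namespace Cfsg.Agent.H1.EP8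

open Matrix Cfsg Cfsg.Geo Cfsg.Agent.H915.LD Cfsg.Agent.H871
open H912.Bd (IsL IsU IsS IsOP)

universe u

/-- `11:5 ≤ A_11` -/
theorem frob11_alt11 : Par.Frob11 (alternatingGroup (Fin 11)) := by
  let x : Equiv.Perm (Fin 11) := c[0, 1, 2, 3, 4, 5, 6, 7, 8, 9, 10]
  let y : Equiv.Perm (Fin 11) := c[1, 3, 9, 5, 4] * c[2, 6, 7, 10, 8]
  refine ⟨⟨x, ?_⟩, ⟨y, ?_⟩, Subtype.ext ?_, ?_, Subtype.ext ?_⟩
  · rw [Equiv.Perm.mem_alternatingGroup]; decide +kernel
  · rw [Equiv.Perm.mem_alternatingGroup]; decide +kernel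
  · change x ^ 11 = 1; decide +kernel
  · intro h
    have : x = 1 := congrArg Subtype.val h
    revert this; decide +kernel
  · change y * x * y⁻¹ = x ^ 3; decide +kernel

theorem frob11_alt {n : ℕ} (hn : 11 ≤ n) : Par.Frob11 (alternatingGroup (Fin n)) := by
  obtain ⟨f, hf⟩ := H912.Bd.exists_alt_hom (Fin.castLEEmb hn)
  exact frob11_alt11.of_inj f hf

/-- the alternating socles in dimension eight -/
def AltD (p : ℕ) (T : Type*) [Group T] : Prop :=
  (p ≠ 3 ∧ Nonempty (T ≃* alternatingGroup (Fin 6))) ∨ Nonempty (T ≃* alternatingGroup (Fin 7)) ∨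
  (p ≠ 2 ∧ Nonempty (T ≃* alternatingGroup (Fin 8))) ∨ Nonempty (T ≃* alternatingGroup (Fin 9)) ∨
  Nonempty (T ≃* alternatingGroup (Fin 10)) ∨ (p = 11 ∧ Nonempty (T ≃* alternatingGroup (Fin 11)))

/-- the classical socles -/
def LieD (p : ℕ) (T : Type*) [Group T] : Prop :=
  (p ≠ 7 ∧ IsL 2 7 T) ∨ (p ≠ 2 ∧ IsL 2 8 T) ∨ (p ≠ 17 ∧ IsL 2 17 T) ∨ (p ≠ 2 ∧ IsS 3 2 T) ∨ (p ≠ 2 ∧ IsOP 4 2 T)

/-- the sporadic socles -/
def SporD (p : ℕ) (T : Type*) [Group T] : Prop :=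
  p = 11 ∧ (Spor.IsoM11 T ∨ Spor.IsoM12 T ∨ Spor.IsoM22 T)

variable {F : Type u} [Field F] [Fintype F] {ι : Type} [Fintype ι] [DecidableEq ι] {P : Subgroup (GL ι F)} (p : ℕ)
  [hp : Fact p.Prime] [hFp : CharP F p]

include hp hFp in
theorem ne_zero_of {r : ℕ} (hr : r.Prime) (h : p ≠ r) : (r : F) ≠ 0 := H936.List12.cast_ne hr (Ne.symm h)

include hp hFp in
theorem cross (hC : Core P) (h8 : Fintype.card ι = 8) (hSD : SD P) (hk : IsKnownSimple' (Soc P))
    (hL : ¬ IsLieTypeChar p (Soc P)) :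
    AltD p (Soc P) ∨ LieD p (Soc P) ∨ (p ≠ 2 ∧ H912.Bd.IsSz8 (Soc P)) ∨ SporD p (Soc P) := by
  have hs := hC.simple
  have hne := hC.nonempty
  let ε : ι ≃ Fin 8 := Fintype.equivFinOfCardEq h8
  have hC' := H912.Rx.core_re ε hC
  have E : Soc (H912.Rx.re ε P) ≃* Soc P := (H912.Rx.socEquiv ε).symm
  have hF2 : p ≠ 2 → (2 : F) ≠ 0 := fun hp2 => by exact_mod_cast ne_zero_of p Nat.prime_two hp2 (F := F)
  have hpd : ∀ {T : Type} [Group T], (Soc P ≃* T) → Par.PD F 8 T := by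
    intro T _ e
    have h1 := Par.pd_of_sd hC hSD e
    rwa [h8] at h1
  have hfrob : ∀ {T : Type} [Group T], (Soc P ≃* T) → Par.Frob11 T → p = 11 := by
    intro T _ e hT
    by_contra h11
    have h1 := (hpd e).of_frob11 (by exact_mod_cast ne_zero_of p (r := 11) (by norm_num) h11 (F := F)) hT
    omega
  have hlist := H936.List12.list (p := p) (by rw [h8]; norm_num) hC hk hL
  rw [h8] at hlist
  rcases hlist with h | h | h | h | h
  · -- alternating groups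
    left
    obtain ⟨m, h5, h14, h12, -, -, ⟨e⟩⟩ := h
    rcases (show m = 5 ∨ m = 6 ∨ m = 7 ∨ m = 8 ∨ m = 9 ∨ m = 10 ∨ 11 ≤ m by omega) with
      rfl | rfl | rfl | rfl | rfl | rfl | hm
    · exfalso
      by_cases hp5 : p = 5
      · subst hp5
        apply hL
        have : Fact (Nat.Prime 5) := ⟨by norm_num⟩
        obtain ⟨f⟩ := Cfsg.Agent.S0253.result (F := ZMod 5) (ZMod.card 5)
        exact Or.inl ⟨ZMod 5, inferInstance, inferInstance, inferInstance, 2, le_rfl, fun _ => by simp,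
          ⟨e.trans f.symm⟩⟩
      · have h1 := H937.T2.a5_dims (p := p) hC e hp5
        rw [h8] at h1
        revert h1
        decide
    · refine Or.inl ⟨?_, ⟨e⟩⟩
      rintro rfl
      obtain ⟨K, iK, iKf, hK, hK3, f⟩ := H937.T2.exists_nine e
      exact hL (H936.List12.lie_of_isL (m := 2) (q := 9) Nat.prime_three (by norm_num) le_rfl (fun _ => by norm_num)
        ⟨K, iK, iKf, hK, f⟩)
    · exact Or.inr (Or.inl ⟨e⟩)
    · refine Or.inr (Or.inr (Or.inl ⟨?_, ⟨e⟩⟩))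
      rintro rfl
      obtain ⟨e'⟩ := S0256.result (F := ZMod 2) (by simp)
      exact hL (Or.inl ⟨ZMod 2, inferInstance, inferInstance, inferInstance, 4, by norm_num, fun h => by omega,
        ⟨e.trans e'.symm⟩⟩)
    · exact Or.inr (Or.inr (Or.inr (Or.inl ⟨e⟩)))
    · exact Or.inr (Or.inr (Or.inr (Or.inr (Or.inl ⟨e⟩))))
    · have h11 := hfrob e (frob11_alt hm)
      have hm11 : m = 11 := by
        by_contra hcon
        have := h12 (by omega) (by omega)
        omega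
      subst hm11
      exact Or.inr (Or.inr (Or.inr (Or.inr (Or.inr ⟨h11, ⟨e⟩⟩))))
  · -- classical groups
    rcases h with ⟨q, hq, hpq, hqn, K, i1, i2, hK, ⟨e⟩⟩ | ⟨h1, -, K, i1, i2, hK, ⟨e⟩⟩ | ⟨h1, -, K, i1, i2, hK, ⟨e⟩⟩ |
      ⟨-, h1, -⟩ | ⟨h1, h2, -, K, i1, i2, hK, ⟨e⟩⟩ | ⟨h1, -, K, i1, i2, hK, ⟨e⟩⟩ | ⟨-, h1, -⟩ |
      ⟨h1, -, h⟩ | ⟨h1, -, h⟩
    · simp only [Finset.mem_insert, Finset.mem_singleton] at hq
      have h5 := H464.Sl2.l2_degrees p hC (K := K) (by rw [hK]; omega) (by rw [hK]; omega) (by rwa [hK]) e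
        (by rw [h8]; norm_num)
      rw [h8] at h5
      simp only [Finset.mem_insert, Finset.mem_singleton] at h5
      have hq' : q = 7 ∨ q = 8 ∨ q = 17 := by omega
      rcases hq' with rfl | rfl | rfl
      · refine Or.inr (Or.inl (Or.inl ⟨?_, K, i1, i2, hK, ⟨e⟩⟩))
        rintro rfl
        exact hpq (dvd_refl 7)
      · refine Or.inr (Or.inl (Or.inr (Or.inl ⟨?_, K, i1, i2, hK, ⟨e⟩⟩)))
        rintro rfl
        exact hpq (by norm_num)
      · refine Or.inr (Or.inl (Or.inr (Or.inr (Or.inl ⟨?_, K, i1, i2, hK, ⟨e⟩⟩))))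
        rintro rfl
        exact hpq (dvd_refl 17)
    · exfalso
      have h5 := (H175.L33.l33 hC p h1 hK e (by rw [h8]; norm_num)).2.2.2
      rw [h8] at h5
      omega
    · exfalso
      by_cases hp2 : p = 2
      · subst hp2
        have h5 := (H936.U33Two.u33_two hC hK ⟨e⟩ (by rw [h8]; norm_num)).1
        rw [h8] at h5
        omega
      · have h5 := (H659.U3.u33_stage hC p hp2 h1 (by rw [h8]; norm_num) hK e).2
        rw [h8] at h5
        omega
    · omega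
    · exfalso
      have h5 := H659.Sp4.u42_stage' hC p h1 h2 (by rw [h8]; norm_num) hK e
      rw [h8] at h5
      omega
    · exfalso
      have h5 := H36.U52.t6 hC' p h1 (by norm_num) hK (E.trans e)
      omega
    · omega
    · exact Or.inr (Or.inl (Or.inr (Or.inr (Or.inr (Or.inl ⟨h1, h⟩)))))
    · exact Or.inr (Or.inl (Or.inr (Or.inr (Or.inr (Or.inr ⟨h1, h⟩)))))
  · -- exceptional multipliers
    rcases h with ⟨h1, -, ⟨K, i1, i2, hK, ⟨e⟩⟩ | ⟨K, i1, i2, hK, ⟨e⟩⟩ | ⟨h2, K, i1, i2, hK, ⟨e⟩⟩ | h | h | h⟩ | ⟨-, h1, -⟩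
    · refine Or.inr (Or.inl (Or.inl ⟨?_, K, i1, i2, hK, ⟨e⟩⟩))
      rintro rfl
      apply hL
      have : CharP K 7 := H936.List12.charP_of_dvd (by norm_num) (by rw [hK])
      exact Or.inl ⟨K, i1, i2, inferInstance, 2, le_rfl, fun _ => by rw [hK]; norm_num, ⟨e⟩⟩
    · exact (no_psl34 (hpd e) (hF2 h1) hK (MulEquiv.refl _)).elim
    · exfalso
      have h5 := H659.Sp4.u42_stage' hC p h1 h2 (by rw [h8]; norm_num) hK e
      rw [h8] at h5
      omega
    · exact Or.inr (Or.inl (Or.inr (Or.inr (Or.inr (Or.inl ⟨h1, h⟩)))))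
    · exact Or.inr (Or.inl (Or.inr (Or.inr (Or.inr (Or.inr ⟨h1, h⟩)))))
    · exfalso
      have h5 := (H937.G24.row hC h p h1 (by rw [h8]; norm_num)).1
      omega
    · omega
  · -- `Sz(8)`
    exact Or.inr (Or.inr (Or.inl ⟨h.1, h.2.2⟩))
  · -- sporadic groups
    rcases h with ⟨⟨e⟩⟩ | ⟨⟨e⟩⟩ | ⟨⟨e⟩⟩ | ⟨⟨e⟩⟩ | ⟨⟨e⟩⟩ | h | h | h | ⟨⟨e⟩⟩
    · exact Or.inr (Or.inr (Or.inr ⟨hfrob e Par.frob11_M11, Or.inl ⟨e⟩⟩))
    · exact Or.inr (Or.inr (Or.inr ⟨hfrob e Par.frob11_M12, Or.inr (Or.inl ⟨e⟩)⟩))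
    · exact Or.inr (Or.inr (Or.inr ⟨hfrob e Par.frob11_M22, Or.inr (Or.inr ⟨e⟩)⟩))
    · exfalso
      have h5 := (H4.LDM.Stage.m23_low hC e p (by rw [h8]; norm_num)).2.1
      omega
    · exfalso
      have h5 := (H4.LDM.Stage.m24_low hC e p (by rw [h8]; norm_num)).2.1
      omega
    · exfalso
      by_cases h11 : p = 11
      · subst h11
        have h5 := H179.JOne.j1_le12_iso hC h (by exact_mod_cast CharP.cast_eq_zero F 11) (by rw [h8]; norm_num)
        omega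
      · exact H659.J1.not_core hC h p h11 (by rw [h8]; norm_num)
    · exfalso
      have h5 := H905.JD.J2_six hC h (by rw [h8]; norm_num)
      omega
    · exfalso
      have h5 := (H95.JT.j3 p hC h (by rw [h8]; norm_num)).2.1
      omega
    · exfalso
      by_cases h3 : p = 3
      · subst h3
        have h5 := (H878.Sz.core_Suz_three hC e (by rw [h8]; norm_num)).1
        rw [h8] at h5
        omega
      · have h5 := (H878.Sz.core_Suz hC e (by rw [h8]; norm_num) p h3).1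
        rw [h8] at h5
        omega

end Cfsg.Agent.H1.EP8
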