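import Cfsg.Agent.H1.EP8.Cross
import Cfsg.Agent.H1.EP8.AutCard
import Cfsg.Agent.H814.O8P.Num
import Cfsg.Agent.H220.EP.ASevenS
import Cfsg.Agent.H417.EP.AEight
import Cfsg.Agent.H84.EP.RowSp8
import Cfsg.Agent.H689.EP.L27Row
import Cfsg.Agent.H744.EP.SzThree
import Cfsg.Agent.H281.EP.AElevenEight
import Cfsg.Agent.H814.O8P.Alt
import Cfsg.Agent.UGT.U2.Rec.Congr
import Cfsg.Agent.H879.Nine.Ctx

/-!
# S3499-IV, the row `PΩ₈⁺(q)`: the socles that are not of Lie type in the characteristic (helper1, task 5978)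
-/

set_option autoImplicit false
set_option linter.unusedSectionVars false

namespace Cfsg.Agent.H1.EP8

open Subgroup Cfsg Cfsg.Geo Cfsg.Agent.H284 Cfsg.Agent.H419.EP Cfsg.Agent.H915.LD
open H912.Bd (IsL IsU IsS IsOP IsSz8)
open scoped MatrixGroups

/-- the socle `Ω₈⁺(2)`, all odd `q` (`H286.EP.kill_odd`) -/
def KillO8 : Prop := ∀ {Q : Type} [Group Q] [Finite Q] {A : Subgroup Q} {Γ : Subgroup (MulAut Q)}, EPT A Γ →
  HasSoc A (Cfsg.POmega (ZMod 2) (Cfsg.quadFormPlus 4 (ZMod 2))) → ∀ {F : Type} [Field F] [Fintype F],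
  Odd (Fintype.card F) → ∀ (_ : Q ≃* Cfsg.POmega F (Cfsg.quadFormPlus 4 F)), False

variable {Q : Type} [Group Q] [Finite Q] {A : Subgroup Q} {Γ : Subgroup (MulAut Q)} {F : Type} [Field F] [Fintype F]
  {ι : Type} [Fintype ι] [DecidableEq ι] {Qf : (ι → F) → F} {P : Subgroup (GL ι F)}

/-- `Q ≃ PΩ₈⁺(q)` -/
theorem exists_equiv (nd : IsNondegenerateQuadraticForm Qf) (plus : IsPlusTypeOn Qf ⊤) (h8 : Fintype.card ι = 8)
    (m : Model Q (omegaGL Qf)) : Nonempty (Q ≃* Cfsg.POmega F (Cfsg.quadFormPlus 4 F)) := by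
  obtain ⟨m₁, -⟩ := H473.TR.tr_plus nd m (k := 4) (by rw [h8]) plus
  obtain ⟨m₂⟩ := H775.EP.model_plus 4 (by norm_num) F
  exact H36.EPL.model_equiv m₁ m₂

theorem field_ge_three (h2 : Fintype.card F ≠ 2) : 3 ≤ Fintype.card F := by
  have h1 : 1 < Fintype.card F := Fintype.one_lt_card
  omega

theorem nonempty_plus {K K' : Type*} [Field K] [Field K'] (σ : K ≃+* K') (m : ℕ) :
    Nonempty (Cfsg.POmega K (Cfsg.quadFormPlus m K) ≃* Cfsg.POmega K' (Cfsg.quadFormPlus m K')) :=
  UGT.U2.Rec.Congr.nonempty_POmega σ fun v => by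
    simp [quadFormPlus, map_sum, map_mul]

/-- the socle preimage fixes the form -/
theorem sd_of_model (nd : IsNondegenerateQuadraticForm Qf) (m : Model Q (omegaGL Qf))
    (hP : IsResidualCore (m.hat A) P) : SD P := by
  have hle : P ≤ omegaGL Qf := hP.le.trans (m.hat_le A)
  have hfix : FixesQuadForm (matrixSet P) Qf := by
    rintro _ ⟨x, hx, rfl⟩ v
    have h1 : x ∈ omegaGL Qf := hle hx
    rw [H887.OmegaBridge.omegaGL_eq] at h1
    exact H887.OmegaBridge.mem_isometryGroup.1 (Subgroup.commutator_le_self _ h1) v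
  exact H879.Nine.sd_of_fixQ ⟨Qf, nd, hfix⟩

theorem eq_of_dvd_card {K : Type} [Field K] [Fintype K] {p r : ℕ} [Fact p.Prime] [CharP K p] (hr : r.Prime) (hp : p = r) :
    Fintype.card K ≠ 1 ∧ r ∣ Fintype.card K := by
  subst hp
  obtain ⟨k, -, hk⟩ := FiniteField.card K p
  exact ⟨Fintype.one_lt_card.ne', by rw [hk]; exact dvd_pow_self p k.ne_zero⟩

/-- **The socles of `A` which are not of Lie type in the characteristic are impossible.** -/
theorem cross_kill (p : ℕ) [hp : Fact p.Prime] [CharP F p] (hg : H59.EP.TwoGen.{0}) (h56 : H84.EP.Res56)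
    (hBr : H839.EP.Br) (hO8 : KillO8) (hs : IsSimpleGroup Q) (h : EPT A Γ) (h8 : Fintype.card ι = 8)
    (nd : IsNondegenerateQuadraticForm Qf) (plus : IsPlusTypeOn Qf ⊤) (m : Model Q (omegaGL Qf))
    (hP : IsResidualCore (m.hat A) P) (hk : IsKnownSimple' (Soc P)) (hL : ¬ IsLieTypeChar p (Soc P))
    (hA6 : Fintype.card F = 2 → HasSoc A (alternatingGroup (Fin 6)) → False) : False := by
  have hC := core_of_residual hP
  have hSD := sd_of_model nd m hP
  have hS : HasSoc A (Soc P) := hasSoc_of_core m hP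
  have hTs : IsSimpleGroup (Soc P) := hP.simple
  have hTn : ¬ ∀ a b : Soc P, a * b = b * a := fun hc => hP.nonabelian ⟨⟨hc⟩⟩
  have hF1 : 1 < Fintype.card F := Fintype.one_lt_card
  have hpdvd : p ∣ Fintype.card F := by
    obtain ⟨k, -, hk⟩ := FiniteField.card F p
    rw [hk]; exact dvd_pow_self p k.ne_zero
  have hodd : p ≠ 2 → Odd (Fintype.card F) := fun hp2 => by
    obtain ⟨k, -, hk⟩ := FiniteField.card F p
    rw [hk]
    exact (hp.out.odd_of_ne_two hp2).pow
  have h3 : p ≠ 2 → 3 ≤ Fintype.card F := fun hp2 => by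
    have h1 := hodd hp2
    have h2 : Fintype.card F ≠ 2 := fun h => by rw [h] at h1; exact absurd h1 (by decide)
    omega
  have hge : p ≤ Fintype.card F := Nat.le_of_dvd (by omega) hpdvd
  rcases cross p hC h8 hSD hk hL with ha | hl | hz | hsp
  · rcases ha with ⟨hp3, e⟩ | ⟨⟨e⟩⟩ | ⟨hp2, ⟨e⟩⟩ | ⟨⟨e⟩⟩ | ⟨⟨e⟩⟩ | ⟨hp11, ⟨e⟩⟩
    · by_cases hF2 : Fintype.card F = 2
      · obtain ⟨e⟩ := e
        exact hA6 hF2 (hS.congr e)
      · exact H814.O8P.kill hg hs h nd plus h8 m hTs hTn hS (N := 1440) (aut_a6 e) (by norm_num)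
          [(2, 5), (3, 2), (5, 1)] (by simp; norm_num) (by decide) (by norm_num) (by norm_num)
          (q₀ := 3) (by omega) (by decide +kernel)
    · have hQ : 174182400 ≤ Nat.card Q := by
        have h1 := H814.O8P.card_ge nd plus h8 m (q₀ := 2) (by omega)
        by_cases hF2 : Fintype.card F = 2
        · rw [H814.O8P.card_two nd plus h8 m hF2]
        · have h2 := H814.O8P.card_ge nd plus h8 m (q₀ := 3) (by omega)
          have h5 : H814.O8P.N8 3 = 19808719257600 := by norm_num [H814.O8P.N8]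
          omega
      exact H220.EP.seven_large h (hS.congr e) hQ
    · have h1 := H417.EP.index_le_eight h (hS.congr e)
      have h2 : Nat.card A ∣ 40320 := (H814.O8P.dvd_aut hS).trans (aut_alt (by norm_num) (by norm_num) e)
      exact H814.O8P.false_of_bound nd plus h8 m (h3 hp2) (Nat.le_of_dvd (by norm_num) h2) h1
        (by norm_num [H814.O8P.N8])
    · exact H814.O8P.a9 h nd plus h8 m (hS.congr e)
    · exact H814.O8P.a10 hBr p h nd plus h8 m hP e
    · exact H281.EP.no_alt_eight hC p (m := 11) le_rfl e h8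
  · rcases hl with ⟨hp7, K, i1, i2, hK, ⟨e⟩⟩ | ⟨hp2, hl⟩ | ⟨hp17, hl⟩ | ⟨hp2, K, i1, i2, hK, ⟨e⟩⟩ |
      ⟨hp2, K, i1, i2, hK, ⟨e⟩⟩
    · obtain ⟨N, h1, h2, h3, ⟨f⟩⟩ := hS.congr e
      refine H689.EP.psl27_false h h1 h2 hK f h3 (Or.inl ?_)
      by_cases hF2 : Fintype.card F = 2
      · rw [H814.O8P.card_two nd plus h8 m hF2]
        norm_num
      · have h2 := H814.O8P.card_ge nd plus h8 m (q₀ := 3) (by omega)
        have h5 : H814.O8P.N8 3 = 19808719257600 := by norm_num [H814.O8P.N8]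
        omega
    · exact H814.O8P.kill hg hs h nd plus h8 m hTs hTn hS (N := 1512) (aut_l28 hl) (by norm_num)
        [(2, 3), (3, 3), (7, 1)] (by simp; norm_num) (by decide) (by norm_num) (by norm_num)
        (q₀ := 3) (h3 hp2) (by decide +kernel)
    · have h17 := (card_l217 hl).trans (hS.card_dvd.trans (Subgroup.card_subgroup_dvd_card A))
      rcases (show Fintype.card F = 2 ∨ Fintype.card F = 3 ∨ 4 ≤ Fintype.card F by omega) with hF | hF | hF
      · rw [H814.O8P.card_two nd plus h8 m hF] at h17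
        revert h17; norm_num
      · rw [H814.O8P.card_three nd plus h8 m hF] at h17
        revert h17; norm_num
      · exact H814.O8P.kill hg hs h nd plus h8 m hTs hTn hS (N := 4896) (aut_l217 hl) (by norm_num)
          [(2, 5), (3, 2), (17, 1)] (by simp; norm_num) (by decide) (by norm_num) (by norm_num)
          (q₀ := 4) hF (by decide +kernel)
    · have h2 : (2 : F) ≠ 0 := by exact_mod_cast ne_zero_of p Nat.prime_two hp2 (F := F)
      have hF2 : Fintype.card K = Fintype.card (ZMod 2) := by rw [hK, ZMod.card]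
      exact H84.EP.no_sp6_eight h56 h h2 h8 nd m (hS.congr (e.trans
        (LieClassical.FieldTransfer.pspCongr 3 (FiniteField.ringEquivOfCardEq hF2))))
    · obtain ⟨E⟩ := exists_equiv nd plus h8 m
      have hF2 : Fintype.card K = Fintype.card (ZMod 2) := by rw [hK, ZMod.card]
      obtain ⟨f⟩ := nonempty_plus (FiniteField.ringEquivOfCardEq hF2) 4
      exact hO8 h (hS.congr (e.trans f)) (hodd hp2) E
  · obtain ⟨hp2, hz⟩ := hz
    by_cases hF3 : Fintype.card F = 3
    · exact H744.EP.SzThree.no_sz8_three hF3 h8 hC hz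
    · exact H814.O8P.kill hg hs h nd plus h8 m hTs hTn hS (N := 87360) (aut_sz8 hTs hTn hz) (by norm_num)
        [(2, 6), (3, 1), (5, 1), (7, 1), (13, 1)] (by simp; norm_num) (by decide) (by norm_num) (by norm_num)
        (q₀ := 5) (by
          have h1 := h3 hp2
          have h4 := hodd hp2
          have h5 : Fintype.card F ≠ 4 := fun h => by rw [h] at h4; exact absurd h4 (by decide)
          omega) (by decide +kernel)
  · obtain ⟨hp11, hsp⟩ := hsp
    rcases hsp with hm | hm | hm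
    · exact H814.O8P.kill hg hs h nd plus h8 m hTs hTn hS (N := 7920) (aut_m11 hTs hTn hm) (by norm_num)
        [(2, 4), (3, 2), (5, 1), (11, 1)] (by simp; norm_num) (by decide) (by norm_num) (by norm_num)
        (q₀ := 11) (by omega) (by decide +kernel)
    · exact H814.O8P.kill hg hs h nd plus h8 m hTs hTn hS (N := 190080) (aut_m12 hTs hTn hm) (by norm_num)
        [(2, 7), (3, 3), (5, 1), (11, 1)] (by simp; norm_num) (by decide) (by norm_num) (by norm_num)
        (q₀ := 11) (by omega) (by decide +kernel)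
    · exact H814.O8P.kill hg hs h nd plus h8 m hTs hTn hS (N := 887040) (aut_m22 hTs hTn hm) (by norm_num)
        [(2, 8), (3, 2), (5, 1), (7, 1), (11, 1)] (by simp; norm_num) (by decide) (by norm_num) (by norm_num)
        (q₀ := 11) (by omega) (by decide +kernel)

end Cfsg.Agent.H1.EP8
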